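import Groth.Agent.DRingLib.LBaseChange
import Groth.Agent.KFlatLib.DerivedCoprod
import Groth.Agent.KFlatLib.DerivedTensor
import Groth.Agent.KFlatLib.TildeKFlat
import Groth.Agent.SweepSix.TildePull
import Groth.Prelude.Def_DCoh2

/-!
# Derived pullback of tilde is tilde of derived base change
-/

set_option autoImplicit false

universe u

open CategoryTheory CategoryTheory.Limits AlgebraicGeometry

attribute [local instance] HasDerivedCategory.standard

namespace LpullTildeLib

variable {A B : Type u} [CommRing A] [CommRing B] (φ : A →+* B)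
  [PreservesFiniteLimits (tilde.functor (CommRingCat.of A))]
  [PreservesFiniteLimits (tilde.functor (CommRingCat.of B))]
  [DRing.HasLBaseChange φ] [DCoh.HasLpull (Spec.map (CommRingCat.ofHom φ))]

instance additive_tilde (C : Type u) [CommRing C] : (tilde.functor (CommRingCat.of C)).Additive :=
  instAdditiveModuleCatCarrierModulesSpecOfFunctor (R := CommRingCat.of C)

instance preservesFiniteColimits_tilde (C : Type u) [CommRing C] :
    PreservesFiniteColimits (tilde.functor (CommRingCat.of C)) :=
  haveI : PreservesColimitsOfSize.{0, 0} (tilde.functor (CommRingCat.of C)) :=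
    (tilde.adjunction (R := CommRingCat.of C)).leftAdjoint_preservesColimits
  PreservesColimitsOfSize.preservesFiniteColimits _

/-- K-flat resolutions of complexes of `A`-modules. -/
noncomputable abbrev res := Groth.Agent.DRingLib.resP A

/-- `tilde` on complexes of `A`-modules. -/
noncomputable abbrev tA : CochainComplex (ModuleCat.{u} A) ℤ ⥤ CochainComplex (Spec (CommRingCat.of A)).Modules ℤ :=
  (tilde.functor (CommRingCat.of A)).mapHomologicalComplex (ComplexShape.up ℤ)

/-- `tilde` on complexes of `B`-modules. -/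
noncomputable abbrev tB : CochainComplex (ModuleCat.{u} B) ℤ ⥤ CochainComplex (Spec (CommRingCat.of B)).Modules ℤ :=
  (tilde.functor (CommRingCat.of B)).mapHomologicalComplex (ComplexShape.up ℤ)

/-- Base change on complexes. -/
noncomputable abbrev extCx : CochainComplex (ModuleCat.{u} A) ℤ ⥤ CochainComplex (ModuleCat.{u} B) ℤ :=
  (ModuleCat.extendScalars.{u, u, u} φ).mapHomologicalComplex (ComplexShape.up ℤ)

/-- Pullback on complexes. -/
noncomputable abbrev pullC : CochainComplex (Spec (CommRingCat.of A)).Modules ℤ ⥤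
    CochainComplex (Spec (CommRingCat.of B)).Modules ℤ :=
  (Scheme.Modules.pullback (Spec.map (CommRingCat.ofHom φ))).mapHomologicalComplex (ComplexShape.up ℤ)

/-- Replacing a complex by its resolution. -/
noncomputable def resIso {D : Type*} [Category* D] (G : DerivedCategory (ModuleCat.{u} A) ⥤ D) :
    DerivedCategory.Q ⋙ G ≅ res (A := A) ⋙ DerivedCategory.Q ⋙ G :=
  (NatIso.ofComponents (fun K =>
    haveI := Groth.Agent.DRingLib.quasiIso_resψ (R := A) K
    G.mapIso (asIso (DerivedCategory.Q.map ((Groth.Agent.DRingLib.resψ A).app K))))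
    fun {K L} g => by
      have h := (Groth.Agent.DRingLib.resψ A).naturality g
      simp only [Functor.id_map] at h
      simp only [Functor.comp_map, Functor.mapIso_hom, asIso_hom, ← Functor.map_comp, h]).symm

/-- The composite on K-flat resolutions, first base change then tilde. -/
noncomputable def iso₁ : res (A := A) ⋙ DerivedCategory.Q ⋙ DRing.LBaseChange φ ⋙ DCoh.tildeD (CommRingCat.of B) ≅
    res (A := A) ⋙ extCx φ ⋙ tB ⋙ DerivedCategory.Q :=
  NatIso.ofComponents (fun K => (DCoh.tildeD (CommRingCat.of B)).mapIso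
      (Groth.Agent.DRingLib.lBaseChangeObjIso φ _ (Groth.Agent.DRingLib.good_resP K).1) ≪≫
      (tilde.functor (CommRingCat.of B)).mapDerivedCategoryFactors.app _)
    fun {K L} g => by
      simp only [Functor.comp_map, Iso.trans_hom, Functor.mapIso_hom, Iso.app_hom]
      rw [← Category.assoc, ← Functor.map_comp, Groth.Agent.DRingLib.lBaseChangeObjIso_natural φ
        (Groth.Agent.DRingLib.good_resP K).1 (Groth.Agent.DRingLib.good_resP L).1, Functor.map_comp,
        Category.assoc]
      exact (congrArg (_ ≫ ·) ((tilde.functor (CommRingCat.of B)).mapDerivedCategoryFactors.hom.naturality _)).trans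
        (Category.assoc _ _ _).symm

omit [PreservesFiniteLimits (tilde.functor (CommRingCat.of A))]
  [PreservesFiniteLimits (tilde.functor (CommRingCat.of B))] [DRing.HasLBaseChange φ]
  [DCoh.HasLpull (Spec.map (CommRingCat.ofHom φ))] in
theorem lpullObjIso_natural {X Y : Scheme.{u}} (f : X ⟶ Y) [DCoh.HasLpull f]
    {K L : CochainComplex Y.Modules ℤ} (hK : DCoh.IsKFlat K) (hL : DCoh.IsKFlat L) (g : K ⟶ L) :
    (DCoh.Lpull f).map (DerivedCategory.Q.map g) ≫ (KFlatLib.lpullObjIso f L hL).hom =
      (KFlatLib.lpullObjIso f K hK).hom ≫ DerivedCategory.Q.map ((KFlatLib.pullCx f).map g) :=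
  KFlatLib.leftDerivedObjIso_natural (KFlatLib.preservesKFlatQis_pull f) hK hL g

/-- The composite on K-flat resolutions, first tilde then pullback. -/
noncomputable def iso₂ : res (A := A) ⋙ DerivedCategory.Q ⋙ DCoh.tildeD (CommRingCat.of A) ⋙
      DCoh.Lpull (Spec.map (CommRingCat.ofHom φ)) ≅
    res (A := A) ⋙ tA ⋙ pullC φ ⋙ DerivedCategory.Q :=
  NatIso.ofComponents (fun K => (DCoh.Lpull (Spec.map (CommRingCat.ofHom φ))).mapIso
      ((tilde.functor (CommRingCat.of A)).mapDerivedCategoryFactors.app _) ≪≫
      KFlatLib.lpullObjIso _ _ (KFlatLib.isKFlat_tilde (Groth.Agent.DRingLib.good_resP K).1))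
    fun {K L} g => by
      simp only [Functor.comp_map, Iso.trans_hom, Functor.mapIso_hom, Iso.app_hom]
      rw [← Category.assoc, ← Functor.map_comp]
      refine ((congrArg (fun t => (DCoh.Lpull (Spec.map (CommRingCat.ofHom φ))).map t ≫ _)
        ((tilde.functor (CommRingCat.of A)).mapDerivedCategoryFactors.hom.naturality
          ((res (A := A)).map g))).trans ?_)
      rw [Functor.map_comp, Category.assoc, Category.assoc]
      exact congrArg (_ ≫ ·) (lpullObjIso_natural _ _ _ _)

/-- Pullback of tilde on complexes. -/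
noncomputable def cxIso : tA ⋙ pullC φ ≅ extCx φ ⋙ tB :=
  NatIso.ofComponents
    (fun K => HomologicalComplex.Hom.isoOfComponents
      (fun n => (SweepSix.tildePullIso (CommRingCat.ofHom φ)).app (K.X n))
      fun i j _ => ((SweepSix.tildePullIso (CommRingCat.ofHom φ)).hom.naturality (K.d i j)).symm)
    fun g => HomologicalComplex.hom_ext _ _ fun n =>
      (SweepSix.tildePullIso (CommRingCat.ofHom φ)).hom.naturality (g.f n)

theorem nonempty_iso : Nonempty (DRing.LBaseChange φ ⋙ DCoh.tildeD (CommRingCat.of B) ≅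
    DCoh.tildeD (CommRingCat.of A) ⋙ DCoh.Lpull (Spec.map (CommRingCat.ofHom φ))) := by
  let e : DerivedCategory.Q ⋙ DRing.LBaseChange φ ⋙ DCoh.tildeD (CommRingCat.of B) ≅
      DerivedCategory.Q ⋙ DCoh.tildeD (CommRingCat.of A) ⋙ DCoh.Lpull (Spec.map (CommRingCat.ofHom φ)) :=
    resIso _ ≪≫ iso₁ φ ≪≫
      Functor.isoWhiskerLeft (res (A := A)) (Functor.isoWhiskerRight (cxIso φ).symm DerivedCategory.Q) ≪≫
      (iso₂ φ).symm ≪≫ (resIso _).symm
  exact ⟨Localization.liftNatIso DerivedCategory.Q
    (HomologicalComplex.quasiIso (ModuleCat.{u} A) (ComplexShape.up ℤ)) _ _ _ _ e⟩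

end LpullTildeLib
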